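import Groth.Agent.QCohAffine.PullTilde
import Groth.Agent.TensorMod.FinLocFree
import Mathlib.AlgebraicGeometry.Morphisms.Immersion
import Mathlib.RingTheory.Nakayama
import Mathlib.RingTheory.Support

/-!
# Counting generators of modules along a stratification of the spectrum
-/

set_option autoImplicit false
set_option backward.isDefEq.respectTransparency.types false

universe u

open CategoryTheory Limits AlgebraicGeometry

namespace Groth.Agent.GenCount

/-- An epimorphism from `O^n` onto a tilde module gives `n` generators. -/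
theorem exists_generators_of_epi (S : CommRingCat.{u}) (X : ModuleCat.{u} S) (n : ℕ)
    (φ : FlatMod.freeMod (Spec S) n ⟶ (tilde.functor S).obj X) [Epi φ] :
    ∃ s : Fin n → X, Submodule.span S (Set.range s) = ⊤ := by
  let L := ModuleCat.of S (ULift.{u} (Fin n) →₀ S)
  let α : (tilde.functor S).obj L ⟶ (tilde.functor S).obj X :=
    ((tildeFinsupp (R := S) (ULift.{u} (Fin n))).hom ≫ (TensorMod.freeModIso _ n).inv) ≫ φ
  haveI : Epi α := epi_comp _ _
  let l : L ⟶ X := (tilde.fullyFaithfulFunctor (R := S)).preimage α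
  have hl : (tilde.functor S).map l = α := (tilde.fullyFaithfulFunctor (R := S)).map_preimage α
  haveI : Epi ((tilde.functor S).map l) := hl ▸ inferInstance
  haveI : Epi l := (tilde.functor S).epi_of_epi_map inferInstance
  have hsurj := (ModuleCat.epi_iff_surjective l).1 inferInstance
  refine ⟨fun i => l.hom (Finsupp.single (ULift.up i) 1), top_unique fun x _ => ?_⟩
  obtain ⟨y, rfl⟩ := hsurj x
  induction y using Finsupp.induction_linear with
  | zero => simp
  | add a b ha hb => rw [map_add]; exact Submodule.add_mem _ (ha trivial) (hb trivial)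
  | single i r =>
    rw [← Finsupp.smul_single_one, map_smul]
    exact Submodule.smul_mem _ _ (Submodule.subset_span ⟨i.down, rfl⟩)

/-- If a scheme over `Spec R` on which the pullback of `M~` has `n` generators receives a map from
`Spec (R ⧸ I)` then `M ⧸ I M` is generated by `n` elements. -/
theorem exists_generators_mod (R : CommRingCat.{u}) (M : ModuleCat.{u} R) {U : Scheme.{u}} (f : U ⟶ Spec R)
    (n : ℕ) (φ : FlatMod.freeMod U n ⟶ (Scheme.Modules.pullback f).obj (AlgebraicGeometry.tilde M)) [Epi φ]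
    (I : Ideal R) (j : Spec (CommRingCat.of (R ⧸ I)) ⟶ U)
    (hj : j ≫ f = Spec.map (CommRingCat.ofHom (Ideal.Quotient.mk I))) :
    ∃ s : Fin n → M, Submodule.span R (Set.range s) ⊔ I • ⊤ = ⊤ := by
  let ψ : R ⟶ CommRingCat.of (R ⧸ I) := CommRingCat.ofHom (Ideal.Quotient.mk I)
  let e : (Scheme.Modules.pullback j).obj ((Scheme.Modules.pullback f).obj ((tilde.functor R).obj M)) ≅
      (tilde.functor (CommRingCat.of (R ⧸ I))).obj ((ModuleCat.extendScalars ψ.hom).obj M) :=
    (Scheme.Modules.pullbackComp j f).app _ ≪≫ (Scheme.Modules.pullbackCongr hj).app _ ≪≫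
      (QCohAffine.pullbackTildeIso ψ).app M
  haveI : Epi ((Scheme.Modules.pullback j).map φ) := inferInstance
  let β : FlatMod.freeMod (Spec (CommRingCat.of (R ⧸ I))) n ⟶
      (tilde.functor (CommRingCat.of (R ⧸ I))).obj ((ModuleCat.extendScalars ψ.hom).obj M) :=
    ((TensorMod.pullbackFreeModIso j n).inv ≫ (Scheme.Modules.pullback j).map φ) ≫ e.hom
  haveI : Epi β := epi_comp _ _
  obtain ⟨t, ht⟩ := exists_generators_of_epi _ _ n β
  obtain ⟨e'⟩ := QCohAffine.nonempty_extendScalars_iso (A' := R) (A := R ⧸ I) M ψ.hom rfl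
  let t' : Fin n → TensorProduct R (R ⧸ I) M := fun i => e'.hom.hom (t i)
  have ht' : Submodule.span (R ⧸ I) (Set.range t') = ⊤ := by
    have h2 := LinearMap.range_eq_top.2 e'.toLinearEquiv.surjective
    rw [← Submodule.map_top, ← ht, Submodule.map_span, ← Set.range_comp] at h2
    exact h2
  let q : M →ₗ[R] TensorProduct R (R ⧸ I) M := TensorProduct.mk R (R ⧸ I) M 1
  have hq : Function.Surjective q := TensorProduct.mk_surjective R M (R ⧸ I) Ideal.Quotient.mk_surjective
  choose s hs using fun i => hq (t' i)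
  refine ⟨s, top_unique fun x _ => ?_⟩
  have h3 : Submodule.span R (Set.range t') = ⊤ := by
    rw [← Submodule.restrictScalars_span R (R ⧸ I) Ideal.Quotient.mk_surjective, ht', Submodule.restrictScalars_top]
  have hx : q x ∈ Submodule.span R (Set.range t') := h3 ▸ trivial
  rw [show Set.range t' = q '' Set.range s by rw [← Set.range_comp]; exact congrArg Set.range (funext fun i => (hs i).symm),
    ← Submodule.map_span] at hx
  obtain ⟨y, hy, hyx⟩ := hx
  have hd : q (x - y) = 0 := by rw [map_sub, hyx, sub_self]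
  have hd' : x - y ∈ I • (⊤ : Submodule R M) := by
    have := congrArg (TensorProduct.quotTensorEquivQuotSMul M I) hd
    simpa [q, ← Submodule.Quotient.mk_sub, Submodule.Quotient.mk_eq_zero] using this
  rw [← add_sub_cancel y x]
  exact Submodule.add_mem_sup hy hd'

/-- A reduced `Spec (R ⧸ I)` factors through an immersion containing its support. -/
theorem exists_factor (R : CommRingCat.{u}) (I : Ideal R) (hI : I.IsRadical) {T : Scheme.{u}} (g : T ⟶ Spec R)
    [IsImmersion g] (h : PrimeSpectrum.zeroLocus (I : Set R) ⊆ Set.range g) :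
    ∃ j : Spec (CommRingCat.of (R ⧸ I)) ⟶ T, j ≫ g = Spec.map (CommRingCat.ofHom (Ideal.Quotient.mk I)) := by
  haveI : IsReduced (R ⧸ I) := (Ideal.isRadical_iff_quotient_reduced I).1 hI
  let i := Spec.map (CommRingCat.ofHom (Ideal.Quotient.mk I))
  have hi : Set.range i ⊆ Set.range g := by
    refine subset_trans (le_of_eq ?_) h
    exact (range_comap_of_surjective _ (Ideal.Quotient.mk I) Ideal.Quotient.mk_surjective).trans
      (by rw [Ideal.mk_ker])
  have hg : Set.range g ⊆ g.coborderRange := subset_coborder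
  let i₀ := IsOpenImmersion.lift g.coborderRange.ι i (by rw [Scheme.Opens.range_ι]; exact hi.trans hg)
  have hi₀ : i₀ ≫ g.coborderRange.ι = i := IsOpenImmersion.lift_fac _ _ _
  haveI : Surjective (pullback.snd g.liftCoborder i₀) := by
    constructor
    rw [← Set.range_eq_univ, Scheme.Pullback.range_snd, Set.eq_univ_iff_forall]
    intro p
    obtain ⟨t, ht⟩ := hi ⟨p, rfl⟩
    refine ⟨t, g.coborderRange.ι.isOpenEmbedding.injective ?_⟩
    rw [← Scheme.Hom.comp_apply, ← Scheme.Hom.comp_apply, Scheme.Hom.liftCoborder_ι, hi₀]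
    exact ht
  haveI : IsIso (pullback.snd g.liftCoborder i₀) := isIso_of_isClosedImmersion_of_surjective _
  refine ⟨inv (pullback.snd g.liftCoborder i₀) ≫ pullback.fst g.liftCoborder i₀, ?_⟩
  rw [Category.assoc, IsIso.inv_comp_eq]
  exact (congrArg (pullback.fst g.liftCoborder i₀ ≫ ·) g.liftCoborder_ι.symm).trans (by rw [pullback.condition_assoc, hi₀])

/-- Generators along a stratification by closed sets. -/
theorem exists_generators_of_strata {R : Type u} [CommRing R] {M : Type u} [AddCommGroup M] [Module R M]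
    [Module.Finite R M] (N : ℕ) (Z : ℕ → Set (PrimeSpectrum R)) (hZ : ∀ k, IsClosed (Z k)) (h0 : Z 0 = ∅)
    (m : ℕ) (h : ∀ k < m, ∀ I : Ideal R, I.IsRadical → PrimeSpectrum.zeroLocus (I : Set R) ⊆ Z (k + 1) \ Z k →
      ∃ s : Fin N → M, Submodule.span R (Set.range s) ⊔ I • ⊤ = ⊤) :
    ∃ s : Fin (N * m) → M, Disjoint (Module.support R (M ⧸ Submodule.span R (Set.range s))) (Z m) := by
  induction m with
  | zero => exact ⟨fun i => 0, by simp [h0]⟩
  | succ m ih =>
    obtain ⟨s, hs⟩ := ih fun k hk => h k (by omega)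
    let P := Submodule.span R (Set.range s)
    let V := Module.support R (M ⧸ P) ∩ Z (m + 1)
    have hV : IsClosed V := by
      refine IsClosed.inter ?_ (hZ _)
      rw [Module.support_eq_zeroLocus]
      exact PrimeSpectrum.isClosed_zeroLocus _
    let I := PrimeSpectrum.vanishingIdeal V
    have hI : PrimeSpectrum.zeroLocus (I : Set R) = V :=
      (PrimeSpectrum.zeroLocus_vanishingIdeal_eq_closure V).trans hV.closure_eq
    obtain ⟨t, ht⟩ := h m (by omega) I (PrimeSpectrum.isRadical_vanishingIdeal V)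
      (hI.le.trans fun x hx => ⟨hx.2, fun hx' => Set.disjoint_left.1 hs hx.1 hx'⟩)
    refine ⟨fun i => Fin.append s t (Fin.cast (Nat.mul_succ N m) i), ?_⟩
    set P' := Submodule.span R (Set.range fun i => Fin.append s t (Fin.cast (Nat.mul_succ N m) i)) with hP'
    have hle : P ≤ P' ∧ Submodule.span R (Set.range t) ≤ P' := by
      constructor <;> refine Submodule.span_mono ?_ <;> rintro _ ⟨i, rfl⟩
      · exact ⟨Fin.cast (Nat.mul_succ N m).symm (Fin.castAdd N i), by simp⟩
      · exact ⟨Fin.cast (Nat.mul_succ N m).symm (Fin.natAdd (N * m) i), by simp⟩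
    have hsurj : Function.Surjective (Submodule.factor hle.1) := Submodule.factor_surjective hle.1
    rw [Set.disjoint_left]
    intro x hx hxZ
    have hxV : x ∈ V := ⟨Module.support_subset_of_surjective _ hsurj hx, hxZ⟩
    rw [← hI, PrimeSpectrum.mem_zeroLocus] at hxV
    have h5 : (Submodule.span R (Set.range t)).map P'.mkQ = ⊥ :=
      le_bot_iff.1 ((Submodule.map_mono hle.2).trans (Submodule.mkQ_map_self P').le)
    have h4 : (⊤ : Submodule R (M ⧸ P')) = (I • (⊤ : Submodule R M)).map P'.mkQ := by
      rw [← Submodule.range_mkQ P', ← Submodule.map_top, ← ht, Submodule.map_sup, h5, bot_sup_eq, ht]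
    have htop : (⊤ : Submodule R (M ⧸ P')) ≤ I • ⊤ := h4.le.trans (by
      rw [Submodule.map_smul'']
      exact Submodule.smul_mono le_rfl le_top)
    obtain ⟨r, hr, hr0⟩ := Submodule.exists_sub_one_mem_and_smul_eq_zero_of_fg_of_le_smul I ⊤
      Module.Finite.fg_top htop
    rw [Module.mem_support_iff_exists_annihilator] at hx
    obtain ⟨z, hz⟩ := hx
    have hrx : r ∈ x.asIdeal := hz (Submodule.mem_annihilator_span_singleton _ _ |>.2 (hr0 z trivial))
    exact x.isPrime.ne_top ((Ideal.eq_top_iff_one _).2 (by simpa using sub_mem hrx (hxV hr)))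

/-- Strata covering the spectrum give generators. -/
theorem exists_generators_of_strata_univ {R : Type u} [CommRing R] {M : Type u} [AddCommGroup M] [Module R M]
    [Module.Finite R M] (N : ℕ) (Z : ℕ → Set (PrimeSpectrum R)) (hZ : ∀ k, IsClosed (Z k)) (h0 : Z 0 = ∅)
    (m : ℕ) (hm : Z m = Set.univ)
    (h : ∀ k < m, ∀ I : Ideal R, I.IsRadical → PrimeSpectrum.zeroLocus (I : Set R) ⊆ Z (k + 1) \ Z k →
      ∃ s : Fin N → M, Submodule.span R (Set.range s) ⊔ I • ⊤ = ⊤) :
    ∃ s : Fin (N * m) → M, Submodule.span R (Set.range s) = ⊤ := by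
  obtain ⟨s, hs⟩ := exists_generators_of_strata N Z hZ h0 m h
  rw [hm, Set.disjoint_univ, Module.support_eq_empty_iff] at hs
  exact ⟨s, Submodule.Quotient.subsingleton_iff.1 hs⟩

end Groth.Agent.GenCount
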